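import Groth.Agent.MTQuot.Diag
import Groth.Prelude.Def_RedSub
import Groth.Agent.MTBridge.BaseChange
import Groth.Agent.MTBridge.MonoTori

/-!
# Quotients of diagonalisable groups by subgroups of multiplicative type
-/

set_option autoImplicit false
set_option linter.style.haveILetI false
set_option backward.isDefEq.respectTransparency false
set_option maxHeartbeats 1000000
set_option synthInstance.maxHeartbeats 400000

universe u

open CategoryTheory Limits MonoidalCategory CartesianMonoidalCategory AlgebraicGeometry WithConv TopologicalSpace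
open scoped CategoryTheory.Obj MonObj

noncomputable section

namespace Groth.Agent.MTQuot

open Groth.Agent.MTBridge Groth.Agent.HomDiag

theorem bcCongr_hom_fst {S U : Scheme.{u}} {f f' : U ⟶ S} (h : f = f') (G : Over S) [GrpObj G] :
    (bcCongr h G).hom.hom.hom.left ≫ pullback.fst _ _ = pullback.fst _ _ := by
  subst h
  simp [bcCongr]

theorem bcDS_hom_fst {S U : Scheme.{u}} (j : U ⟶ S) (M : Type) [AddCommGroup M] :
    (bcDS j M).hom.hom.hom.left ≫ pullback.fst _ _ = pullback.fst _ j ≫ pullback.fst _ _ := by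
  simp only [bcDS, Iso.trans_hom, Grp.comp', Over.comp_left, Category.assoc]
  show ((bcComp _ j (Red.diag (ULift.{u} ℤ) M)).symm.hom.hom.hom.left ≫
    (bcCongr (specULiftZIsTerminal.hom_ext _ _) (Red.diag (ULift.{u} ℤ) M)).hom.hom.hom.left) ≫ pullback.fst _ _ = _
  rw [Category.assoc, bcCongr_hom_fst]
  simp [bcComp, Over.pullbackComp]
  exact Category.id_comp _

theorem ch_toBC_bcDS {S U : Scheme.{u}} (j : U ⟶ S) {M : Type} [AddCommGroup M] {X : Over U}
    (a : (Over.map j).obj X ⟶ Red.DS S M) (m : Multiplicative M) :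
    ch (toBC j a ≫ (bcDS j M).hom.hom.hom) m = ch a m := by
  have h : (toBC j a ≫ (bcDS j M).hom.hom.hom).left ≫ pullback.fst _ _ = a.left ≫ pullback.fst _ _ := by
    rw [Over.comp_left, Category.assoc, bcDS_hom_fst, ← Category.assoc]
    congr 1
    simp [toBC, Over.mapPullbackAdj]
  exact congrArg (fun g : X.left ⟶ Spec (CommRingCat.of (ZA.{u} M)) => ρ g (MonoidAlgebra.single m 1)) h

variable {S : Scheme.{u}} {M : Type} [AddCommGroup M]

/-- The relation of right translation by a subgroup, on points. -/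
def IsRel {T H Q : Over S} [GrpObj T] (i : H ⟶ T) (q : T ⟶ Q) : Prop :=
  ∀ (X : Over S) (a b : X ⟶ T), a ≫ q = b ≫ q ↔ ∃ h : X ⟶ H, b = a * (h ≫ i)

theorem isRel_of_isQuotient {T H Q : Over S} [GrpObj T] [GrpObj H] (i : H ⟶ T) (q : T ⟶ Q)
    (hq : RedSub.IsQuotient i q) : IsRel i q ∧ CoverMap.Covers q.left := by
  obtain ⟨h1, h2, h3, hsq⟩ := hq
  refine ⟨fun X a b => ⟨fun h => CoverMap.exists_of_eq hsq.flip b a h.symm, fun ⟨h, hh⟩ => ?_⟩,
    T.left, q.left, 𝟙 _, Scheme.fppfPrecoverage_le_fpqcPrecoverage _ q.left.singleton_mem_fppfPrecoverage,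
    Category.id_comp _⟩
  rw [hh, CoverMap.comp_mul_right hsq.flip]

theorem covers_bc {U : Scheme.{u}} (j : U ⟶ S) {T Q : Over S} (q : T ⟶ Q) (hq : CoverMap.Covers q.left) :
    CoverMap.Covers ((Over.pullback j).map q).left := by
  have h1 : pullback.fst T.hom j ≫ q.left = ((Over.pullback j).map q).left ≫ pullback.fst Q.hom j :=
    (pullback.lift_fst _ _ _).symm
  have sq : IsPullback (pullback.fst T.hom j) ((Over.pullback j).map q).left q.left (pullback.fst Q.hom j) := by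
    refine IsPullback.of_bot ?_ h1 (IsPullback.of_hasPullback _ _)
    rw [show ((Over.pullback j).map q).left ≫ pullback.snd Q.hom j = pullback.snd T.hom j from
      Over.w ((Over.pullback j).map q), Over.w q]
    exact IsPullback.of_hasPullback _ _
  exact hq.of_isPullback sq.flip

theorem toBC_injective {U : Scheme.{u}} (j : U ⟶ S) {X : Over U} {G : Over S}
    {a b : (Over.map j).obj X ⟶ G} (h : toBC j a = toBC j b) : a = b :=
  ((Over.mapPullbackAdj j).homEquiv X G).injective h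

theorem isRel_bc {U : Scheme.{u}} (j : U ⟶ S) {T H Q : Over S} [GrpObj T] {i : H ⟶ T} {q : T ⟶ Q}
    (h : IsRel i q) : IsRel ((Over.pullback j).map i) ((Over.pullback j).map q) := by
  intro X a b
  obtain ⟨a, rfl⟩ := exists_toBC_eq j a
  obtain ⟨b, rfl⟩ := exists_toBC_eq j b
  rw [← toBC_comp, ← toBC_comp]
  constructor
  · intro he
    obtain ⟨x, hx⟩ := (h _ a b).1 (toBC_injective j he)
    exact ⟨toBC j x, by rw [← toBC_comp, ← toBC_mul, hx]⟩
  · rintro ⟨x, hx⟩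
    obtain ⟨x, rfl⟩ := exists_toBC_eq j x
    rw [← toBC_comp, ← toBC_mul] at hx
    exact congrArg _ ((h _ a b).2 ⟨x, toBC_injective j hx⟩)

theorem isRel_iso {T T' H Q : Over S} [GrpObj T] [GrpObj T'] {i : H ⟶ T} {q : T ⟶ Q} (h : IsRel i q)
    (e : T ≅ T') [IsMonHom e.hom] : IsRel (i ≫ e.hom) (e.inv ≫ q) := by
  intro X a b
  rw [← Category.assoc, ← Category.assoc, h X (a ≫ e.inv) (b ≫ e.inv)]
  refine exists_congr fun x => ?_
  rw [← cancel_mono e.hom, MonObj.mul_comp]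
  simp

/-- Two coverings with the same relation have isomorphic targets. -/
theorem nonempty_iso_of_rel {T Q Q' : Over S} [GrpObj T] [GrpObj Q] [GrpObj Q'] (q : T ⟶ Q) (r : T ⟶ Q')
    [IsMonHom q] [IsMonHom r] (hq : CoverMap.Covers q.left) (hr : CoverMap.Covers r.left)
    (h : ∀ (X : Over S) (a b : X ⟶ T), a ≫ q = b ≫ q ↔ a ≫ r = b ≫ r) :
    Nonempty (Grp.mk Q ≅ Grp.mk Q') := by
  haveI := CoverMap.epi_over hq
  haveI := CoverMap.epi_over hr
  haveI : Epi (q ⊗ₘ q) := CoverMap.epi_over (CoverMap.covers_tensorHom hq hq)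
  obtain ⟨d, hd, -⟩ := CoverMap.existsUnique_fac hq r fun X a b hab => (h X a b).1 hab
  obtain ⟨d', hd', -⟩ := CoverMap.existsUnique_fac hr q fun X a b hab => (h X a b).2 hab
  let e : Q ≅ Q' :=
    { hom := d
      inv := d'
      hom_inv_id := by rw [← cancel_epi q, reassoc_of% hd, hd', Category.comp_id]
      inv_hom_id := by rw [← cancel_epi r, reassoc_of% hd', hd, Category.comp_id] }
  haveI : IsMonHom d := by
    refine ⟨?_, ?_⟩
    · rw [← IsMonHom.one_hom q, Category.assoc, hd, IsMonHom.one_hom]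
    · rw [← cancel_epi (q ⊗ₘ q), ← Category.assoc, ← IsMonHom.mul_hom, Category.assoc, hd, IsMonHom.mul_hom,
        tensorHom_comp_tensorHom_assoc, hd]
  haveI : IsMonHom e.hom := ‹IsMonHom d›
  exact ⟨Grp.mkIso' e⟩

section Kernel

variable {H : Over S} [GrpObj H] (i : H ⟶ Red.DS S M)

/-- All points over a field-valued point of the base kill the character. -/
def Triv {K : Type u} [Field K] (k : Spec (CommRingCat.of K) ⟶ S) (m : M) : Prop :=
  ∀ X : Over S, (∃ a : X.left ⟶ Spec (CommRingCat.of K), a ≫ k = X.hom) →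
    ∀ y : X ⟶ H, ch (y ≫ i) (Multiplicative.ofAdd m) = 1

/-- Over `W` the subgroup is cut out by the characters in `N`. -/
structure IsLocN {S' : Scheme.{u}} (f : S' ⟶ S) (W : S'.Opens) (N : AddSubgroup M) : Prop where
  kills : ∀ (X : Over S) (l : X.left ⟶ S'), l ≫ f = X.hom → Set.range l ⊆ (W : Set S') →
    ∀ m ∈ N, ∀ y : X ⟶ H, ch (y ≫ i) (Multiplicative.ofAdd m) = 1
  factor : ∀ (X : Over S) (l : X.left ⟶ S'), l ≫ f = X.hom → Set.range l ⊆ (W : Set S') →
    ∀ x : X ⟶ Red.DS S M, (∀ m ∈ N, ch x (Multiplicative.ofAdd m) = 1) → ∃ y : X ⟶ H, y ≫ i = x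
  mem : ∀ (K : Type u) [Field K] (l : Spec (CommRingCat.of K) ⟶ S'), Set.range l ⊆ (W : Set S') →
    ∀ m, Triv i (l ≫ f) m → m ∈ N

theorem exists_local [IsMonHom i] [Mono i] [AddGroup.FG M] {S' U : Scheme.{u}} (f : S' ⟶ S) (o : U ⟶ S')
    [IsOpenImmersion o] {P : Type} [AddCommGroup P] (e : Grp.mk (Red.bc (o ≫ f) H) ≅ Grp.mk (Red.DS U P))
    (u : U) : ∃ (W : S'.Opens) (N : AddSubgroup M), o u ∈ W ∧ IsLocN i f W N := by
  let j := o ≫ f
  haveI h1 : IsMonHom e.inv.hom.hom := inferInstance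
  let w : Red.DS U P ⟶ Red.DS U M := e.inv.hom.hom ≫ (Over.pullback j).map i ≫ (bcDS j M).hom.hom.hom
  haveI : IsMonHom w := by dsimp [w]; infer_instance
  haveI : IsIso e.inv.hom.hom := inferInstanceAs (IsIso ((Grp.forget _).map e.inv))
  haveI : IsIso (bcDS j M).hom.hom.hom := inferInstanceAs (IsIso ((Grp.forget _).map (bcDS j M).hom))
  haveI : Mono w := by dsimp [w]; infer_instance
  obtain ⟨V, θ, huV, hθ⟩ := exists_local_DSmap w u
  have hsurj : Function.Surjective θ := surjective_of_mono huV θ fun X hX x y hxy => by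
    rw [← cancel_mono w, hθ X hX, hθ X hX, hxy]
  have hiso : e.hom.hom.hom ≫ e.inv.hom.hom = 𝟙 _ := ((Grp.forget _).mapIso e).hom_inv_id
  have hiso' : e.inv.hom.hom ≫ e.hom.hom.hom = 𝟙 _ := ((Grp.forget _).mapIso e).inv_hom_id
  have tr : ∀ (X : Over S) (l : X.left ⟶ S'), l ≫ f = X.hom → Set.range l ⊆ ((o ''ᵁ V : S'.Opens) : Set S') →
      ∃ (Xl : Over U) (ε : (Over.map j).obj Xl ≅ X), Set.range Xl.hom ⊆ (V : Set U) ∧
        ∀ (a : X ⟶ Red.DS S M) (m : Multiplicative M), ch (ε.hom ≫ a) m = 1 ↔ ch a m = 1 := by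
    intro X l hl hr
    have hr' : Set.range l ⊆ Set.range o := hr.trans (by rintro _ ⟨v, -, rfl⟩; exact ⟨v, rfl⟩)
    let l' := IsOpenImmersion.lift o l hr'
    have hl' : l' ≫ o = l := IsOpenImmersion.lift_fac _ _ _
    refine ⟨Over.mk l', Over.isoMk (Iso.refl _) (by
      simp only [Iso.refl_hom, Category.id_comp]
      show X.hom = l' ≫ o ≫ f
      rw [← Category.assoc, hl', hl]), ?_, fun a m => ?_⟩
    · rintro _ ⟨p, rfl⟩
      obtain ⟨v, hv, hvp⟩ := hr ⟨p, rfl⟩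
      rw [← hl'] at hvp
      exact (o.isOpenEmbedding.injective hvp : v = l' p) ▸ hv
    · rw [ch_comp]
      show (𝟙 X.left : X.left ⟶ X.left).appTop (ch a m) = 1 ↔ _
      rw [Scheme.Hom.id_appTop]
      rfl
  refine ⟨o ''ᵁ V, θ.ker, ⟨u, huV, rfl⟩, ⟨?_, ?_, ?_⟩⟩
  · intro X l hl hr m hm y
    obtain ⟨Xl, ε, hXl, hε⟩ := tr X l hl hr
    rw [← hε, ← ch_toBC_bcDS j, ← Category.assoc ε.hom y i, toBC_comp, Category.assoc]
    let z := toBC j (ε.hom ≫ y) ≫ e.hom.hom.hom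
    have hz : toBC j (ε.hom ≫ y) ≫ (Over.pullback j).map i ≫ (bcDS j M).hom.hom.hom = z ≫ w := by
      simp only [z, w, Category.assoc, reassoc_of% hiso]
    rw [hz, hθ Xl hXl, ch_DSmap]
    rw [toAdd_ofAdd, (AddMonoidHom.mem_ker.1 hm), ofAdd_zero, map_one]
  · intro X l hl hr x hx
    obtain ⟨Xl, ε, hXl, hε⟩ := tr X l hl hr
    let χ₀ := (ch (ε.hom ≫ x)).toHomUnits
    let θ' := AddMonoidHom.toMultiplicative θ
    have hθ' : Function.Surjective θ' := fun p => by
      obtain ⟨m, hm⟩ := hsurj p.toAdd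
      exact ⟨Multiplicative.ofAdd m, congrArg Multiplicative.ofAdd hm⟩
    have hker : θ'.ker ≤ χ₀.ker := fun m hm =>
      MonoidHom.mem_ker.2 <| Units.ext <| (hε x m).2 (hx m.toAdd (AddMonoidHom.mem_ker.2 (congrArg Multiplicative.toAdd (MonoidHom.mem_ker.1 hm))))
    obtain ⟨z, hz⟩ := exists_ch (S := U) (X := Xl)
      ((Units.coeHom _).comp (θ'.liftOfSurjective hθ' ⟨χ₀, hker⟩))
    obtain ⟨y, hy⟩ := exists_toBC_eq j (z ≫ e.inv.hom.hom)
    refine ⟨ε.inv ≫ y, ?_⟩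
    rw [← cancel_epi ε.hom, ← Category.assoc ε.hom, ε.hom_inv_id_assoc]
    refine ch_ext fun m => ?_
    rw [← ch_toBC_bcDS j, toBC_comp, hy, Category.assoc, Category.assoc]
    show ch (z ≫ w) m = Units.val (χ₀ m)
    rw [hθ Xl hXl, ch_DSmap, hz]
    exact congrArg Units.val (MonoidHom.liftOfRightInverse_comp_apply _ _ _ ⟨χ₀, hker⟩ m)
  · intro K _ l hr m hm
    let L := MonoidAlgebra K (Multiplicative P)
    let str : Spec (CommRingCat.of L) ⟶ Spec (CommRingCat.of K) :=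
      Spec.map (CommRingCat.ofHom (algebraMap K L))
    let X : Over S := Over.mk (str ≫ l ≫ f)
    obtain ⟨Xl, ε, hXl, hε⟩ := tr X (str ≫ l) (Category.assoc _ _ _) (by
      rintro _ ⟨p, rfl⟩
      exact hr ⟨str p, rfl⟩)
    let χ : Multiplicative P →* Γ(X.left, ⊤) :=
      ((Scheme.ΓSpecIso (CommRingCat.of L)).inv.hom.toMonoidHom).comp (MonoidAlgebra.of K (Multiplicative P))
    let ψ : Multiplicative P →* Γ(Xl.left, ⊤) := (ε.hom.left.appTop.hom.toMonoidHom).comp χ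
    obtain ⟨z, hz⟩ := exists_ch (S := U) (X := Xl) ψ
    obtain ⟨y, hy⟩ := exists_toBC_eq j (z ≫ e.inv.hom.hom)
    have h := (hε _ _).2 (hm X ⟨str, rfl⟩ (ε.inv ≫ y))
    rw [Category.assoc, ε.hom_inv_id_assoc, ← ch_toBC_bcDS j, toBC_comp, hy, Category.assoc, Category.assoc] at h
    replace h : ch (z ≫ w) (Multiplicative.ofAdd m) = 1 := h
    rw [hθ Xl hXl, ch_DSmap, hz, toAdd_ofAdd] at h
    haveI : IsIso ε.hom.left := inferInstanceAs (IsIso ((Over.forget _).map ε.hom))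
    have h2 : χ (Multiplicative.ofAdd (θ m)) = 1 :=
      (ConcreteCategory.bijective_of_isIso ε.hom.left.appTop).1 (h.trans (map_one _).symm)
    have h3 := congrArg (Scheme.ΓSpecIso (CommRingCat.of L)).hom h2
    simp only [χ] at h3
    erw [Iso.inv_hom_id_apply, map_one, MonoidAlgebra.one_def] at h3
    exact AddMonoidHom.mem_ker.2
      (congrArg Multiplicative.toAdd (MonoidAlgebra.single_left_injective (R := K) one_ne_zero h3))

variable [IsMonHom i] [Mono i] [AddGroup.FG M]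

/-- The character group cutting out the subgroup is locally constant on the base. -/
theorem exists_nfun (hH : SGA3x.IsMultTypeFT H) : ∃ (S' : Scheme.{u}) (f : S' ⟶ S) (Nf : S → AddSubgroup M),
    CoverMap.Covers f ∧ (∀ N, IsOpen {s | Nf s = N}) ∧
      ∀ s' : S', ∃ W : S'.Opens, s' ∈ W ∧ IsLocN i f W (Nf (f s')) := by
  obtain ⟨S', f, hf, hfs, hlift, hloc⟩ := hH
  have hex : ∀ s' : S', ∃ (W : S'.Opens) (N : AddSubgroup M), s' ∈ W ∧ IsLocN i f W N := by
    intro s'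
    obtain ⟨U, hU, P, hP, -, ⟨e⟩⟩ := hloc s'
    exact exists_local i f U.ι e ⟨s', hU⟩
  choose W N hW hN using hex
  have heq : ∀ (a b : S') (K : Type u) [Field K] (la lb : Spec (CommRingCat.of K) ⟶ S'),
      Set.range la ⊆ (W a : Set S') → Set.range lb ⊆ (W b : Set S') → la ≫ f = lb ≫ f → N a ≤ N b := by
    intro a b K _ la lb ha hb hab m hm
    refine (hN b).mem K lb hb m fun X ⟨t, ht⟩ y => (hN a).kills X (t ≫ la) ?_ ?_ m hm y
    · rw [Category.assoc, hab, ht]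
    · rintro _ ⟨p, rfl⟩
      exact ha ⟨t p, rfl⟩
  have hconst : ∀ a b : S', f a = f b → N a = N b := by
    intro a b hab
    obtain ⟨z, hza, hzb⟩ := Scheme.Pullback.exists_preimage_pullback (f := f) (g := f) a b hab
    let k := (pullback f f).fromSpecResidueField z
    have hc : (k ≫ pullback.fst f f) ≫ f = (k ≫ pullback.snd f f) ≫ f := by
      rw [Category.assoc, Category.assoc, pullback.condition]
    have h1 : Set.range (k ≫ pullback.fst f f) ⊆ (W a : Set S') := by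
      rintro _ ⟨p, rfl⟩
      show pullback.fst f f (k p) ∈ W a
      rw [Scheme.fromSpecResidueField_apply, hza]
      exact hW a
    have h2 : Set.range (k ≫ pullback.snd f f) ⊆ (W b : Set S') := by
      rintro _ ⟨p, rfl⟩
      show pullback.snd f f (k p) ∈ W b
      rw [Scheme.fromSpecResidueField_apply, hzb]
      exact hW b
    exact le_antisymm (heq a b _ _ _ h1 h2 hc) (heq b a _ _ _ h2 h1 hc.symm)
  have hnear : ∀ a b : S', b ∈ W a → N b = N a := by
    intro a b hb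
    have h1 : Set.range (S'.fromSpecResidueField b) ⊆ (W a : Set S') := by
      rintro _ ⟨p, rfl⟩
      rw [Scheme.fromSpecResidueField_apply]
      exact hb
    have h2 : Set.range (S'.fromSpecResidueField b) ⊆ (W b : Set S') := by
      rintro _ ⟨p, rfl⟩
      rw [Scheme.fromSpecResidueField_apply]
      exact hW b
    exact le_antisymm (heq b a _ _ _ h2 h1 rfl) (heq a b _ _ _ h1 h2 rfl)
  let pre : S → S' := fun s => (f.surjective s).choose
  have hpre : ∀ s, f (pre s) = s := fun s => (f.surjective s).choose_spec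
  let Nf : S → AddSubgroup M := fun s => N (pre s)
  have hNf : ∀ s', Nf (f s') = N s' := fun s' => hconst _ _ (hpre _)
  refine ⟨S', f, Nf, CoverMap.covers_of_hcov ⟨S', f, 𝟙 _, Category.id_comp _, hfs, hf, hlift⟩, fun N₀ => ?_,
    fun s' => ⟨W s', hW s', (hNf s').symm ▸ hN s'⟩⟩
  refine isOpen_iff_forall_mem_open.2 fun s hs => ?_
  obtain ⟨V, hV, hsV, -⟩ := exists_isAffineOpen_mem_and_subset (X := S) (x := s) (U := ⊤) trivial
  obtain ⟨Wc, hWc, hWV⟩ := hlift V hV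
  have hle : Wc ≤ f ⁻¹ᵁ V := fun w hw => hWV.subset ⟨w, hw, rfl⟩
  let g : (Wc : Scheme.{u}) ⟶ (V : Scheme.{u}) := f.resLE V Wc hle
  haveI : CompactSpace Wc := isCompact_iff_compactSpace.1 hWc
  haveI : IsAffine (V : Scheme.{u}) := hV
  have hgval : ∀ w, V.ι (g w) = f (Wc.ι w) := fun w => by
    show (g ≫ V.ι) w = _
    rw [Scheme.Hom.resLE_comp_ι]
    rfl
  haveI : Surjective g := ⟨fun v => by
    obtain ⟨w, hw, hwv⟩ := hWV.ge v.2
    exact ⟨⟨w, hw⟩, Subtype.ext ((hgval ⟨w, hw⟩).trans hwv)⟩⟩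
  haveI : Flat g := by
    haveI : Flat (g ≫ V.ι) := by rw [Scheme.Hom.resLE_comp_ι]; infer_instance
    exact MorphismProperty.of_postcomp (W' := @IsOpenImmersion) _ g V.ι inferInstance ‹_›
  haveI : QuasiCompact g := quasiCompact_of_compactSpace g
  let A : Set (V : Scheme.{u}) := {v | Nf (V.ι v) = N₀}
  have hA : IsOpen A := by
    rw [← (Flat.isQuotientMap_of_surjective g).isOpen_preimage]
    refine isOpen_iff_forall_mem_open.2 fun w hw => ⟨Wc.ι ⁻¹ᵁ W (Wc.ι w), fun w' hw' => ?_,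
      (Wc.ι ⁻¹ᵁ W (Wc.ι w)).isOpen, hW _⟩
    have hw₀ : Nf (V.ι (g w)) = N₀ := hw
    show Nf (V.ι (g w')) = N₀
    rw [hgval, hNf] at hw₀ ⊢
    rw [hnear _ _ hw', hw₀]
  exact ⟨V.ι '' A, by rintro _ ⟨v, hv, rfl⟩; exact hv, V.ι.isOpenEmbedding.isOpenMap _ hA,
    ⟨s, hsV⟩, hs, rfl⟩

variable {S' : Scheme.{u}} {f : S' ⟶ S} {Nf : S → AddSubgroup M}

theorem comp_eq_one_iff (N : AddSubgroup M) {X : Over S} (x : X ⟶ Red.DS S M) :
    x ≫ Red.DSmap S N.subtype = 1 ↔ ∀ m ∈ N, ch x (Multiplicative.ofAdd m) = 1 := by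
  constructor
  · intro h m hm
    have h1 := congrArg (fun z => ch z (Multiplicative.ofAdd (⟨m, hm⟩ : N))) h
    rw [ch_DSmap, ch_one] at h1
    exact h1
  · intro h
    exact ch_ext fun n => by
      rw [ch_DSmap, ch_one]
      exact h _ n.toAdd.2

/-- Where the character group is constant it cuts out exactly the subgroup. -/
theorem factor_iff (hf : CoverMap.Covers f) (hloc : ∀ s' : S', ∃ W : S'.Opens, s' ∈ W ∧ IsLocN i f W (Nf (f s')))
    (N : AddSubgroup M) {X : Over S} (hX : ∀ p, Nf (X.hom p) = N) (x : X ⟶ Red.DS S M) :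
    (∃ y : X ⟶ H, y ≫ i = x) ↔ x ≫ Red.DSmap S N.subtype = 1 := by
  choose W hW hN using hloc
  let X' : Over S := Over.mk (pullback.fst X.hom f ≫ X.hom)
  let p : X' ⟶ X := Over.homMk (pullback.fst X.hom f) rfl
  have hp : CoverMap.Covers p.left := hf.of_isPullback (IsPullback.of_hasPullback X.hom f)
  haveI := CoverMap.epi_over hp
  let O : X'.left → X'.left.Opens := fun z => pullback.snd X.hom f ⁻¹ᵁ W (pullback.snd X.hom f z)
  have hO : IsOpenCover O := IsOpenCover.mk (eq_top_iff.2 fun z _ => Opens.mem_iSup.2 ⟨z, hW _⟩)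
  let 𝒰 := Scheme.openCoverOfIsOpenCover X'.left O hO
  let pc : X'.left → Over S := fun z => Over.mk ((O z).ι ≫ X'.hom)
  let c : ∀ z, pc z ⟶ X' := fun z => Over.homMk (O z).ι rfl
  have hl : ∀ z, ((O z).ι ≫ pullback.snd X.hom f) ≫ f = (pc z).hom := fun z => by
    show _ = (O z).ι ≫ pullback.fst X.hom f ≫ X.hom
    rw [Category.assoc, ← pullback.condition]
  have hrg : ∀ z, Set.range ((O z).ι ≫ pullback.snd X.hom f) ⊆ (W (pullback.snd X.hom f z) : Set S') := by
    rintro z _ ⟨w, rfl⟩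
    exact w.2
  have hNz : ∀ z, Nf (f (pullback.snd X.hom f z)) = N := fun z => by
    rw [← hX (pullback.fst X.hom f z)]
    congr 1
    rw [← Scheme.Hom.comp_apply, ← pullback.condition]
    rfl
  constructor
  · rintro ⟨y, rfl⟩
    rw [← cancel_epi p, MonObj.comp_one, Category.assoc]
    apply Over.OverMorphism.ext
    refine Scheme.Cover.hom_ext 𝒰 _ _ fun z => ?_
    show (c z ≫ p ≫ y ≫ i ≫ Red.DSmap S N.subtype).left = (c z ≫ (1 : X' ⟶ Red.DS S N)).left
    refine congrArg (fun k => Over.Hom.left k) ?_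
    rw [MonObj.comp_one, ← Category.assoc y, ← Category.assoc p, ← Category.assoc (c z)]
    refine (comp_eq_one_iff N _).2 fun m hm => ?_
    rw [← Category.assoc p, ← Category.assoc (c z)]
    exact (hN _).kills (pc z) _ (hl z) (hrg z) m ((hNz z).symm ▸ hm) _
  · intro hx
    have hex : ∀ z, ∃ y : pc z ⟶ H, y ≫ i = c z ≫ p ≫ x := fun z =>
      (hN _).factor (pc z) _ (hl z) (hrg z) _ fun m hm => by
        refine (comp_eq_one_iff N _).1 ?_ m (hNz z ▸ hm)
        rw [Category.assoc, Category.assoc, hx, MonObj.comp_one, MonObj.comp_one]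
    choose y hy using hex
    have hcompat : ∀ a b, pullback.fst (𝒰.f a) (𝒰.f b) ≫ (y a).left = pullback.snd (𝒰.f a) (𝒰.f b) ≫ (y b).left := by
      intro a b
      let P : Over S := Over.mk (pullback.fst (𝒰.f a) (𝒰.f b) ≫ (pc a).hom)
      let pa : P ⟶ pc a := Over.homMk (pullback.fst (𝒰.f a) (𝒰.f b)) rfl
      let pb : P ⟶ pc b := Over.homMk (pullback.snd (𝒰.f a) (𝒰.f b)) (by
        show pullback.snd (𝒰.f a) (𝒰.f b) ≫ 𝒰.f b ≫ X'.hom = pullback.fst (𝒰.f a) (𝒰.f b) ≫ 𝒰.f a ≫ X'.hom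
        rw [pullback.condition_assoc])
      have h : pa ≫ y a = pb ≫ y b := by
        rw [← cancel_mono i, Category.assoc, Category.assoc, hy, hy]
        apply Over.OverMorphism.ext
        show pullback.fst (𝒰.f a) (𝒰.f b) ≫ 𝒰.f a ≫ (p ≫ x).left = pullback.snd (𝒰.f a) (𝒰.f b) ≫ 𝒰.f b ≫ (p ≫ x).left
        rw [pullback.condition_assoc]
      exact congrArg (fun k => Over.Hom.left k) h
    let g := 𝒰.glueMorphisms (fun z => (y z).left) hcompat
    let y' : X' ⟶ H := Over.homMk g (by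
      refine Scheme.Cover.hom_ext 𝒰 _ _ fun z => ?_
      rw [Scheme.Cover.ι_glueMorphisms_assoc]
      exact Over.w (y z))
    have hy' : y' ≫ i = p ≫ x := by
      apply Over.OverMorphism.ext
      refine Scheme.Cover.hom_ext 𝒰 _ _ fun z => ?_
      show 𝒰.f z ≫ g ≫ i.left = _
      rw [Scheme.Cover.ι_glueMorphisms_assoc]
      exact congrArg (fun k => Over.Hom.left k) (hy z)
    obtain ⟨y₀, hy₀, -⟩ := CoverMap.existsUnique_fac hp y' fun T a b hab => by
      rw [← cancel_mono i, Category.assoc, Category.assoc, hy', reassoc_of% hab]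
    exact ⟨y₀, by rw [← cancel_epi p, reassoc_of% hy₀, hy']⟩

omit [GrpObj H] [IsMonHom i] [Mono i] [AddGroup.FG M] in
/-- Equal relations from equal kernels, abstractly. -/
theorem eq_iff_of_ker_hom {T H₀ Q Q' X : Over S} [GrpObj T] [GrpObj Q'] {i₀ : H₀ ⟶ T} {q : T ⟶ Q}
    (r : T ⟶ Q') [IsMonHom r] (hrel : IsRel i₀ q)
    (hfac : ∀ x : X ⟶ T, (∃ y : X ⟶ H₀, y ≫ i₀ = x) ↔ x ≫ r = 1) (a b : X ⟶ T) :
    a ≫ q = b ≫ q ↔ a ≫ r = b ≫ r := by
  rw [hrel X a b]
  constructor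
  · rintro ⟨h, rfl⟩
    rw [MonObj.mul_comp, (hfac _).1 ⟨h, rfl⟩, mul_one]
  · intro h
    have hc : (a⁻¹ * b) ≫ r = 1 := by
      have h1 : (a * (a⁻¹ * b)) ≫ r = a ≫ r := by rw [mul_inv_cancel_left, h]
      rwa [MonObj.mul_comp, mul_eq_left] at h1
    obtain ⟨y, hy⟩ := (hfac _).2 hc
    exact ⟨y, by rw [hy, mul_inv_cancel_left]⟩

omit [GrpObj H] [IsMonHom i] [Mono i] [AddGroup.FG M] in
/-- Equal relations from equal kernels. -/
theorem eq_iff_of_ker {N : Type} [AddCommGroup N] (θ : N →+ M) {Q : Over S} {q : Red.DS S M ⟶ Q}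
    (hrel : IsRel i q) {X : Over S}
    (hfac : ∀ x : X ⟶ Red.DS S M, (∃ y : X ⟶ H, y ≫ i = x) ↔ x ≫ Red.DSmap S θ = 1)
    (a b : X ⟶ Red.DS S M) : a ≫ q = b ≫ q ↔ a ≫ Red.DSmap S θ = b ≫ Red.DSmap S θ := by
  haveI := isMonHom_DSmap (S := S) θ
  exact eq_iff_of_ker_hom (T := Red.DS S M) (Q' := Red.DS S N) (Red.DSmap S θ) hrel hfac a b

/-- The relation defined by a covering with kernel `H` agrees with that of the characters. -/
theorem eq_iff (hf : CoverMap.Covers f) (hloc : ∀ s' : S', ∃ W : S'.Opens, s' ∈ W ∧ IsLocN i f W (Nf (f s')))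
    {Q : Over S} {q : Red.DS S M ⟶ Q} (hrel : IsRel i q) (N : AddSubgroup M) {X : Over S}
    (hX : ∀ p, Nf (X.hom p) = N) (a b : X ⟶ Red.DS S M) :
    a ≫ q = b ≫ q ↔ a ≫ Red.DSmap S N.subtype = b ≫ Red.DSmap S N.subtype :=
  eq_iff_of_ker i N.subtype hrel (fun x => factor_iff i hf hloc N hX x) a b

omit [GrpObj H] [IsMonHom i] [Mono i] in
/-- A covering with the relation of characters has a diagonalisable target. -/
theorem nonempty_iso_DS {N : Type} [AddCommGroup N] [AddGroup.FG N] (θ : N →+ M) (hθ : Function.Injective θ)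
    {U : Scheme.{u}} (j : U ⟶ S) {Q : Over S} [GrpObj Q] (q : Red.DS S M ⟶ Q) [IsMonHom q]
    (hq : CoverMap.Covers q.left)
    (h : ∀ (X : Over U) (a b : (Over.map j).obj X ⟶ Red.DS S M),
      a ≫ q = b ≫ q ↔ a ≫ Red.DSmap S θ = b ≫ Red.DSmap S θ) :
    Nonempty (Grp.mk (Red.bc j Q) ≅ Grp.mk (Red.DS U N)) := by
  let r : Red.DS S M ⟶ Red.DS S N := Red.DSmap S θ
  haveI : IsMonHom r := isMonHom_DSmap θ
  obtain ⟨ε⟩ := nonempty_iso_of_rel (T := Red.bc j (Red.DS S M)) (Q := Red.bc j Q) (Q' := Red.bc j (Red.DS S N))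
    ((Over.pullback j).map q) ((Over.pullback j).map r) (covers_bc _ q hq)
    (covers_bc _ r (covers_DSmap _ hθ)) (fun X a b => by
      obtain ⟨a, rfl⟩ := exists_toBC_eq j a
      obtain ⟨b, rfl⟩ := exists_toBC_eq j b
      rw [← toBC_comp, ← toBC_comp, ← toBC_comp, ← toBC_comp]
      exact ⟨fun e => congrArg _ ((h X a b).1 (toBC_injective _ e)),
        fun e => congrArg _ ((h X a b).2 (toBC_injective _ e))⟩)
  exact ⟨ε ≪≫ bcDS j N⟩

omit [GrpObj H] [IsMonHom i] [Mono i] in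
/-- The same without base change. -/
theorem nonempty_iso_DS' {N : Type} [AddCommGroup N] [AddGroup.FG N] (θ : N →+ M) (hθ : Function.Injective θ)
    {Q : Over S} [GrpObj Q] (q : Red.DS S M ⟶ Q) [IsMonHom q] (hq : CoverMap.Covers q.left)
    (h : ∀ (X : Over S) (a b : X ⟶ Red.DS S M), a ≫ q = b ≫ q ↔ a ≫ Red.DSmap S θ = b ≫ Red.DSmap S θ) :
    Nonempty (Grp.mk Q ≅ Grp.mk (Red.DS S N)) := by
  let r : Red.DS S M ⟶ Red.DS S N := Red.DSmap S θ
  haveI : IsMonHom r := isMonHom_DSmap θ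
  exact nonempty_iso_of_rel q r hq (covers_DSmap _ hθ) h

/-- Near every point the quotient is diagonalisable with characters a subgroup. -/
theorem exists_nhd (hH : SGA3x.IsMultTypeFT H) (hfgN : ∀ N : AddSubgroup M, AddGroup.FG N) {Q : Over S}
    [GrpObj Q] (q : Red.DS S M ⟶ Q) [IsMonHom q] (hq : CoverMap.Covers q.left) (hrel : IsRel i q) (s : S) :
    ∃ (V : S.Opens) (N : AddSubgroup M), s ∈ V ∧ Nonempty (Grp.mk (Red.bc V.ι Q) ≅ Grp.mk (Red.DS (V : Scheme.{u}) N)) := by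
  obtain ⟨S', f, Nf, hf, hopen, hloc⟩ := exists_nfun i hH
  let V : S.Opens := ⟨{t | Nf t = Nf s}, hopen _⟩
  refine ⟨V, Nf s, rfl, ?_⟩
  haveI := hfgN (Nf s)
  exact nonempty_iso_DS (Nf s).subtype Subtype.val_injective V.ι q hq fun X a b =>
    eq_iff i hf hloc hrel (Nf s) (fun p => by
      show Nf (V.ι (X.hom p)) = Nf s
      exact (X.hom p).2) a b

/-- Over a connected base the quotient is diagonalisable. -/
theorem exists_global [ConnectedSpace S] (hH : SGA3x.IsMultTypeFT H) (hfgN : ∀ N : AddSubgroup M, AddGroup.FG N)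
    {Q : Over S} [GrpObj Q] (q : Red.DS S M ⟶ Q) [IsMonHom q] (hq : CoverMap.Covers q.left) (hrel : IsRel i q) :
    ∃ N : AddSubgroup M, Nonempty (Grp.mk Q ≅ Grp.mk (Red.DS S N)) := by
  obtain ⟨S', f, Nf, hf, hopen, hloc⟩ := exists_nfun i hH
  obtain ⟨s⟩ := (inferInstance : Nonempty S)
  have hc : IsClopen {t | Nf t = Nf s} := by
    refine ⟨isOpen_compl_iff.1 ?_, hopen _⟩
    exact isOpen_iff_forall_mem_open.2 fun t ht => ⟨_, fun t' ht' h => ht (ht'.symm.trans h), hopen (Nf t), rfl⟩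
  have huniv : ∀ t, Nf t = Nf s := fun t => (hc.eq_univ ⟨s, rfl⟩).ge (Set.mem_univ t)
  haveI := hfgN (Nf s)
  exact ⟨Nf s, nonempty_iso_DS' (Nf s).subtype Subtype.val_injective q hq
    fun X a b => eq_iff i hf hloc hrel (Nf s) (fun p => huniv _) a b⟩

end Kernel

/-- Subgroups of `ℤ^r`. -/
theorem exists_addEquiv {r : ℕ} (N : AddSubgroup (Fin r → ℤ)) :
    ∃ r' : ℕ, r' ≤ r ∧ Nonempty (N ≃+ (Fin r' → ℤ)) := by
  obtain ⟨n, b⟩ := Submodule.basisOfPid (Pi.basisFun ℤ (Fin r)) N.toIntSubmodule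
  refine ⟨n, ?_, ⟨b.equivFun.toAddEquiv⟩⟩
  have h := Submodule.finrank_le N.toIntSubmodule
  rwa [Module.finrank_eq_card_basis b, Fintype.card_fin, Module.finrank_fin_fun] at h

theorem fg_addSubgroup {r : ℕ} (N : AddSubgroup (Fin r → ℤ)) : AddGroup.FG N := by
  obtain ⟨n, -, ⟨e⟩⟩ := exists_addEquiv N
  exact AddGroup.fg_of_surjective (f := e.symm.toAddMonoidHom) e.symm.surjective

variable {T H Q : Over S} [GrpObj T] [GrpObj H] [GrpObj Q]

/-- The quotient of a split torus is split near every point. -/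
theorem exists_split_nhd {r : ℕ} (hT : Red.IsSplitTorusWith (Fin r → ℤ) T) (i : H ⟶ T) [IsMonHom i] [Mono i]
    (hH : SGA3x.IsMultTypeFT H) (q : T ⟶ Q) [IsMonHom q] (hq : CoverMap.Covers q.left) (hrel : IsRel i q)
    (s : S) : ∃ (V : S.Opens) (r' : ℕ), s ∈ V ∧ Red.IsSplitTorusWith (Fin r' → ℤ) (Red.bc V.ι Q) := by
  obtain ⟨g⟩ := hT
  let e : T ≅ Red.DS S (Fin r → ℤ) := (Grp.forget _).mapIso g
  haveI : IsMonHom e.hom := g.hom.hom.isMonHom_hom
  haveI : IsMonHom e.inv := g.inv.hom.isMonHom_hom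
  haveI : IsIso e.inv.left := inferInstanceAs (IsIso ((Over.forget _).map e.inv))
  have hq' : CoverMap.Covers (e.inv ≫ q).left := by
    obtain ⟨Z, z, y, hz, hy⟩ := hq
    exact ⟨Z, z, y ≫ e.hom.left, hz, by
      rw [Category.assoc, ← Over.comp_left, e.hom_inv_id_assoc, hy]⟩
  obtain ⟨V, N, hs, ⟨d⟩⟩ := exists_nhd (i ≫ e.hom) hH fg_addSubgroup (e.inv ≫ q) hq' (isRel_iso hrel e) s
  obtain ⟨r', -, ⟨σ⟩⟩ := exists_addEquiv N
  obtain ⟨c⟩ := nonempty_DS_congr (S := (V : Scheme.{u})) σ.symm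
  exact ⟨V, r', hs, ⟨d ≪≫ c⟩⟩

end Groth.Agent.MTQuot

namespace Groth.Agent.MTQuot

open Groth.Agent.MTBridge Groth.Agent.HomDiag

variable {S : Scheme.{u}} {T H Q : Over S} [GrpObj T] [GrpObj H] [GrpObj Q]

/-- After a base change splitting the torus, the quotient is split near every point. -/
theorem exists_split_bc {S' : Scheme.{u}} (f : S' ⟶ S) (U : S'.Opens) {r : ℕ}
    (hT : Red.IsSplitTorusWith (Fin r → ℤ) (Red.bc (U.ι ≫ f) T)) (i : H ⟶ T) [IsMonHom i] [Mono i]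
    (hH : SGA3x.IsMultTypeFT H) (q : T ⟶ Q) [IsMonHom q] (hq : RedSub.IsQuotient i q) {s : S'} (hs : s ∈ U) :
    ∃ (W : S'.Opens) (r' : ℕ), s ∈ W ∧ Red.IsSplitTorusWith (Fin r' → ℤ) (Red.bc (W.ι ≫ f) Q) := by
  let j := U.ι ≫ f
  obtain ⟨hrel, hcov⟩ := isRel_of_isQuotient i q hq
  haveI : IsMonHom ((Over.pullback j).map i) := inferInstance
  haveI : IsMonHom ((Over.pullback j).map q) := inferInstance
  obtain ⟨V, r', hV, hd⟩ := exists_split_nhd (T := Red.bc j T) (H := Red.bc j H) (Q := Red.bc j Q) hT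
    ((Over.pullback j).map i) (isMultTypeFT_bc H j hH) ((Over.pullback j).map q) (covers_bc j q hcov)
    (isRel_bc j hrel) (⟨s, hs⟩ : U.toScheme)
  obtain ⟨d⟩ := hd
  let k := V.ι ≫ U.ι
  refine ⟨k.opensRange, r', ⟨⟨⟨s, hs⟩, hV⟩, rfl⟩, ?_⟩
  have h1 : Nonempty (Grp.mk (Red.bc (k ≫ f) Q) ≅ Grp.mk (Red.DS (V : Scheme.{u}) (Fin r' → ℤ))) :=
    ⟨bcCongr (Category.assoc _ _ _) Q ≪≫ bcComp j V.ι Q ≪≫ d⟩
  have h2 := nonempty_bc_split (H := Q) h1 k.isoOpensRange.inv
  rwa [← Category.assoc, Scheme.Hom.isoOpensRange_inv_comp] at h2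

end Groth.Agent.MTQuot
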