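import Groth.Agent.HomDiag.Const
import Groth.Agent.HomDiag.Points
import Groth.Agent.CoverMap.Group
import Groth.Agent.MTBridge.CharMap

/-!
# Homomorphisms of diagonalisable groups
-/

set_option autoImplicit false
set_option linter.style.haveILetI false
set_option backward.isDefEq.respectTransparency false
set_option maxHeartbeats 1000000
set_option synthInstance.maxHeartbeats 400000

universe u

open CategoryTheory Limits MonoidalCategory CartesianMonoidalCategory AlgebraicGeometry WithConv
open scoped CategoryTheory.Obj MonObj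

noncomputable section

namespace Groth.Agent.MTQuot

open Groth.Agent.MTBridge Groth.Agent.HomDiag

variable {S : Scheme.{u}} {M N P : Type} [AddCommGroup M] [AddCommGroup N] [AddCommGroup P]

theorem isMonHom_of_map_mul' {A B : Over S} [GrpObj A] [GrpObj B] (φ : A ⟶ B)
    (h : ∀ {T : Over S} (f g : T ⟶ A), (f * g) ≫ φ = (f ≫ φ) * (g ≫ φ)) : IsMonHom φ := by
  refine ⟨?_, ?_⟩
  · have h1 := h (1 : 𝟙_ _ ⟶ A) 1
    rw [_root_.mul_one, left_eq_mul] at h1
    rw [show η[A] = (1 : 𝟙_ _ ⟶ A) by rw [Hom.one_def, toUnit_unit, Category.id_comp], h1, Hom.one_def, toUnit_unit,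
      Category.id_comp]
  · rw [show μ[A] = fst A A * snd A A from Eq.symm (by rw [Hom.mul_def, lift_fst_snd, Category.id_comp]), h,
      Hom.mul_def]
    congr 1

theorem isMonHom_DSmap (θ : N →+ M) : IsMonHom (Red.DSmap S θ) := by
  refine @isMonHom_of_map_mul' S (Red.DS S M) (Red.DS S N) (Red.grpObj_bc _ _) (Red.grpObj_bc _ _) _ ?_
  intro T a b
  refine ch_ext fun m => ?_
  rw [ch_DSmap, ch_mul, ch_mul, ch_DSmap, ch_DSmap]

attribute [instance] isMonHom_DSmap

theorem DSmap_comp (θ : N →+ M) (θ' : P →+ N) :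
    Red.DSmap S θ ≫ Red.DSmap S θ' = Red.DSmap S (θ.comp θ') := by
  refine ch_ext fun m => ?_
  rw [ch_DSmap, show Red.DSmap S θ = 𝟙 _ ≫ Red.DSmap S θ from (Category.id_comp _).symm, ch_DSmap,
    show Red.DSmap S (θ.comp θ') = 𝟙 _ ≫ Red.DSmap S (θ.comp θ') from (Category.id_comp _).symm, ch_DSmap]
  rfl

theorem DSmap_id : Red.DSmap S (AddMonoidHom.id M) = 𝟙 (Red.DS S M) := by
  refine ch_ext fun m => ?_
  rw [show Red.DSmap S (AddMonoidHom.id M) = 𝟙 _ ≫ Red.DSmap S (AddMonoidHom.id M) from (Category.id_comp _).symm,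
    ch_DSmap]
  rfl

/-- An isomorphism of character groups gives one of diagonalisable groups. -/
theorem nonempty_DS_congr (e : N ≃+ M) : Nonempty (Grp.mk (Red.DS S M) ≅ Grp.mk (Red.DS S N)) := by
  let i : Red.DS S M ≅ Red.DS S N :=
    { hom := Red.DSmap S e.toAddMonoidHom
      inv := Red.DSmap S e.symm.toAddMonoidHom
      hom_inv_id := by
        rw [DSmap_comp, ← DSmap_id (S := S) (M := M)]
        congr 1
        ext x
        simp
      inv_hom_id := by
        rw [DSmap_comp, ← DSmap_id (S := S) (M := N)]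
        congr 1
        ext x
        simp }
  haveI : IsMonHom i.hom := isMonHom_DSmap _
  exact ⟨Grp.mkIso' i⟩

/-- The map attached to an injection of character groups is a covering. -/
theorem covers_DSmap [AddGroup.FG M] [AddGroup.FG N] (θ : N →+ M) (hθ : Function.Injective θ) :
    CoverMap.Covers (Red.DSmap S θ).left := by
  let Z := ULift.{u} ℤ
  let φ := (MonoidAlgebra.mapDomainAlgHom Z Z (AddMonoidHom.toMultiplicative θ)).toRingHom
  have hff : φ.FaithfullyFlat := by
    let σM : Multiplicative M ≃* ULift.{u} (Multiplicative M) := (MulEquiv.ulift (α := Multiplicative M)).symm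
    let σN : Multiplicative N ≃* ULift.{u} (Multiplicative N) := (MulEquiv.ulift (α := Multiplicative N)).symm
    let θ' : ULift.{u} (Multiplicative N) →* ULift.{u} (Multiplicative M) :=
      σM.toMonoidHom.comp ((AddMonoidHom.toMultiplicative θ).comp σN.symm.toMonoidHom)
    have hθ' : Function.Injective θ' := fun a b h =>
      σN.symm.injective (Multiplicative.toAdd.injective (hθ (congrArg Multiplicative.toAdd (σM.injective h))))
    let eM := MonoidAlgebra.domCongrBialgEquiv Z Z σM
    let eN := MonoidAlgebra.domCongrBialgEquiv Z Z σN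
    have h : φ = ((eM.symm : MonoidAlgebra Z (ULift.{u} (Multiplicative M)) →ₐ[Z] _).toRingHom.comp
        (MonoidAlgebra.mapDomainAlgHom Z Z θ').toRingHom).comp
        (eN : MonoidAlgebra Z (Multiplicative N) →ₐ[Z] _).toRingHom := by
      refine MonoidAlgebra.ringHom_ext (fun z => ?_) (fun n => ?_)
      · refine (eM.symm_apply_apply _).symm.trans (congrArg eM.symm ?_)
        simp [φ, eM, eN, θ', σM, σN, MonoidAlgebra.domCongrBialgEquiv]
      · refine (eM.symm_apply_apply _).symm.trans (congrArg eM.symm ?_)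
        simp [φ, eM, eN, θ', σM, σN, MonoidAlgebra.domCongrBialgEquiv]
    rw [h]
    exact RingHom.FaithfullyFlat.stableUnderComposition _ _
      (RingHom.FaithfullyFlat.of_bijective (EquivLike.bijective eN))
      (RingHom.FaithfullyFlat.stableUnderComposition _ _ (mapDomain_faithfullyFlat Z θ' hθ')
        (RingHom.FaithfullyFlat.of_bijective (EquivLike.bijective eM.symm)))
  have hfp : φ.FinitePresentation := by
    letI := φ.toAlgebra
    haveI : IsScalarTower Z (MonoidAlgebra Z (Multiplicative N)) (MonoidAlgebra Z (Multiplicative M)) :=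
      .of_algebraMap_eq fun z =>
        ((MonoidAlgebra.mapDomainAlgHom Z Z (AddMonoidHom.toMultiplicative θ)).commutes z).symm
    haveI : Algebra.FinitePresentation Z (MonoidAlgebra Z (Multiplicative M)) := by
      haveI : IsNoetherianRing Z := isNoetherianRing_of_ringEquiv ℤ ULift.ringEquiv.symm
      haveI : Monoid.FG (Multiplicative M) := AddMonoid.fg_iff_mul_fg.1 inferInstance
      haveI : Algebra.FiniteType Z (MonoidAlgebra Z (Multiplicative M)) :=
        MonoidAlgebra.finiteType_iff_fg.2 inferInstance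
      exact Algebra.FinitePresentation.of_finiteType.1 inferInstance
    exact RingHom.finitePresentation_algebraMap.2
      (Algebra.FinitePresentation.of_restrict_scalars_finitePresentation Z (MonoidAlgebra Z (Multiplicative N))
        (MonoidAlgebra Z (Multiplicative M)))
  let g := Spec.map (CommRingCat.ofHom φ)
  haveI : Flat g := Flat.SpecMap_iff.2 (RingHom.FaithfullyFlat.iff_flat_and_comap_surjective.1 hff).1
  haveI : Surjective g := ⟨(RingHom.FaithfullyFlat.iff_flat_and_comap_surjective.1 hff).2⟩
  haveI : LocallyOfFinitePresentation g :=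
    (HasRingHomProperty.Spec_iff (P := @LocallyOfFinitePresentation)).2 hfp
  have sq : IsPullback (pullback.fst (Red.diag Z M).hom (Limits.IsTerminal.from specULiftZIsTerminal S))
      (Red.DSmap S θ).left g (pullback.fst (Red.diag Z N).hom (Limits.IsTerminal.from specULiftZIsTerminal S)) := by
    have h1 : pullback.fst (Red.diag Z M).hom (Limits.IsTerminal.from specULiftZIsTerminal S) ≫ g =
        (Red.DSmap S θ).left ≫ pullback.fst _ _ := by
      simp [Red.DSmap, g, φ, Red.diagMap]
      rfl
    refine IsPullback.of_bot ?_ h1 (IsPullback.of_hasPullback _ _)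
    rw [show (Red.DSmap S θ).left ≫ pullback.snd _ _ = pullback.snd _ _ from Over.w (Red.DSmap S θ),
      show g ≫ (Red.diag Z N).hom = (Red.diag Z M).hom from Over.w (Red.diagMap Z θ)]
    exact IsPullback.of_hasPullback _ _
  haveI : Flat (Red.DSmap S θ).left := MorphismProperty.of_isPullback sq inferInstance
  haveI : Surjective (Red.DSmap S θ).left := MorphismProperty.of_isPullback sq inferInstance
  haveI : LocallyOfFinitePresentation (Red.DSmap S θ).left := MorphismProperty.of_isPullback sq inferInstance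
  exact ⟨_, (Red.DSmap S θ).left, 𝟙 _, Scheme.fppfPrecoverage_le_fpqcPrecoverage _
    ((Red.DSmap S θ).left.singleton_mem_fppfPrecoverage), Category.id_comp _⟩

/-- A homomorphism of diagonalisable groups is locally given by a map of character groups. -/
theorem exists_local_DSmap [AddGroup.FG M] (w : Red.DS S P ⟶ Red.DS S M) [IsMonHom w] (s : S) :
    ∃ (V : S.Opens) (θ : M →+ P), s ∈ V ∧ ∀ (X : Over S), Set.range X.hom ⊆ (V : Set S) →
      ∀ x : X ⟶ Red.DS S P, x ≫ w = x ≫ Red.DSmap S θ := by
  obtain ⟨υ, hυ, hpt⟩ := exists_representsHom_DS (S := S) (M := P) (N := M)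
  obtain ⟨a, ha, -⟩ := hυ.2 (𝟙_ (Over S)) (fst _ _ ≫ w) (fun X g₁ g₂ t => by
    rw [lift_fst_assoc, lift_fst_assoc, lift_fst_assoc, MonObj.mul_comp])
  obtain ⟨⟨θ, z⟩, hz⟩ := (sigmaMk (fun _ : ULift.{u} (M →+ P) => S)).surjective (a.left s)
  let incl := Sigma.ι (fun _ : ULift.{u} (M →+ P) => S) θ
  refine ⟨a.left ⁻¹ᵁ incl.opensRange, θ.down, ⟨z, (sigmaMk_mk (fun _ : ULift.{u} (M →+ P) => S) θ z).symm.trans hz⟩, fun X hX x => ?_⟩
  have hfac : toUnit X ≫ a = toUnit X ≫ TwC.pt S (ULift.{u} (M →+ P)) θ := by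
    apply Over.OverMorphism.ext
    show (toUnit X).left ≫ a.left = (toUnit X).left ≫ incl
    have hr : Set.range ((toUnit X).left ≫ a.left) ⊆ Set.range incl := by
      rintro _ ⟨p, rfl⟩
      exact hX ⟨p, rfl⟩
    rw [← IsOpenImmersion.lift_fac incl _ hr]
    congr 1
    have h1 := (toUnit X ≫ a).w
    simp only [Over.comp_left] at h1
    rw [← IsOpenImmersion.lift_fac incl _ hr, Category.assoc] at h1
    have h2 : incl ≫ (TwC.const S (ULift.{u} (M →+ P))).hom = 𝟙 S := by simp [incl]
    rw [h2, Category.comp_id] at h1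
    exact h1.trans (Over.w (toUnit X)).symm
  have h := congrArg (fun k => lift x (toUnit X) ≫ k) ha
  simp only [lift_fst_assoc, lift_whiskerLeft_assoc] at h
  rw [← h, hfac, ← lift_whiskerLeft_assoc, hpt, lift_fst_assoc]

/-- An injective action on points detects surjectivity on characters. -/
theorem surjective_of_mono {V : S.Opens} {s : S} (hs : s ∈ V) (θ : M →+ P)
    (h : ∀ (X : Over S), Set.range X.hom ⊆ (V : Set S) →
      ∀ x y : X ⟶ Red.DS S P, x ≫ Red.DSmap S θ = y ≫ Red.DSmap S θ → x = y) :
    Function.Surjective θ := by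
  by_contra hns
  simp only [Function.Surjective, not_forall, not_exists] at hns
  obtain ⟨p, hp⟩ := hns
  let L := MonoidAlgebra (S.residueField s) (Multiplicative (P ⧸ θ.range))
  let str : Spec (CommRingCat.of L) ⟶ Spec (S.residueField s) :=
    Spec.map (CommRingCat.ofHom (algebraMap (S.residueField s) L))
  let X : Over S := Over.mk (str ≫ S.fromSpecResidueField s)
  have hX : Set.range X.hom ⊆ (V : Set S) := by
    rintro _ ⟨q, rfl⟩
    show S.fromSpecResidueField s (str q) ∈ V
    rwa [Scheme.fromSpecResidueField_apply]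
  let χ : Multiplicative P →* Γ(X.left, ⊤) :=
    ((Scheme.ΓSpecIso (CommRingCat.of L)).inv.hom.toMonoidHom).comp
      ((MonoidAlgebra.of (S.residueField s) (Multiplicative (P ⧸ θ.range))).comp
        (AddMonoidHom.toMultiplicative (QuotientAddGroup.mk' θ.range)))
  obtain ⟨x, hx⟩ := exists_ch (S := S) (X := X) χ
  have hx1 : x = 1 := h X hX x 1 (ch_ext fun m => by
    rw [ch_DSmap, ch_DSmap, ch_one, hx]
    show (Scheme.ΓSpecIso (CommRingCat.of L)).inv (MonoidAlgebra.single
      (Multiplicative.ofAdd (QuotientAddGroup.mk' θ.range (θ m.toAdd))) 1) = 1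
    rw [show (QuotientAddGroup.mk' θ.range (θ m.toAdd)) = 0 from
      (QuotientAddGroup.eq_zero_iff _).2 ⟨_, rfl⟩, ofAdd_zero, ← MonoidAlgebra.one_def, map_one])
  have h1 := hx (Multiplicative.ofAdd p)
  rw [hx1, ch_one] at h1
  have h2 := congrArg (Scheme.ΓSpecIso (CommRingCat.of L)).hom h1
  simp only [χ] at h2
  erw [Iso.inv_hom_id_apply, map_one, MonoidAlgebra.one_def] at h2
  have h3 := (MonoidAlgebra.single_left_injective (R := S.residueField s) one_ne_zero h2).symm
  obtain ⟨m, hm⟩ := (QuotientAddGroup.eq_zero_iff p).1 (congrArg Multiplicative.toAdd h3)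
  exact hp m hm

end Groth.Agent.MTQuot
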